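import Cfsg.Agent.Helper64.SpBlk.Model
import Cfsg.Agent.Helper1.SLNP.Main
/-! (BENT) for S2292 (architect helper15; MODEL block architect helper64; piece by helper23).

`blkMat e g = 1 + Emat K e * (g - 1) * (Emat K e)ᵀ`: the entries of `blkMat e g` inside and outside the block. -/
set_option autoImplicit false
namespace Cfsg.Agent.Helper64.SpBlk
open Matrix Cfsg.Agent.Helper15.PSp Cfsg.Agent.Helper1.SLNP Cfsg.Agent.Helper1.SL3P
  Cfsg.Agent.Helper96.StC Cfsg.Agent.Helper29.StCM Cfsg.Agent.Helper96.StemSLTwo Cfsg.Agent.Helper96.StPres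
  Cfsg.Agent.Helper9.Sp4P
universe u
variable {K : Type u} [Field K] {ι κ : Type*} [Fintype ι] [DecidableEq ι] [Fintype κ] [DecidableEq κ]

theorem BENT_Emat_mul_apply {α : Type*} (e : ι ↪ κ) (M : Matrix (ι ⊕ ι) α K) (a : ι ⊕ ι) (c : α) :
    (Emat K e * M) (dbl e a) c = M a c := by
  rw [Matrix.mul_apply, Finset.sum_eq_single a]
  · rw [Emat_apply, if_pos rfl, one_mul]
  · intro d _ hd
    rw [Emat_apply, if_neg (fun h => hd (dbl_injective e.injective h).symm), zero_mul]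
  · intro h; exact absurd (Finset.mem_univ _) h

theorem BENT_Emat_mul_apply_notMem {α : Type*} (e : ι ↪ κ) (M : Matrix (ι ⊕ ι) α K) (p : κ ⊕ κ) (c : α)
    (hp : p ∉ Set.range (dbl e)) : (Emat K e * M) p c = 0 := by
  rw [Matrix.mul_apply]
  apply Finset.sum_eq_zero
  intro d _
  rw [Emat_apply, if_neg (fun h => hp ⟨d, h.symm⟩), zero_mul]

theorem BENT_mul_Emat_transpose_apply {α : Type*} [Fintype α] (e : ι ↪ κ) (M : Matrix α (ι ⊕ ι) K)
    (c : α) (b : ι ⊕ ι) : (M * (Emat K e)ᵀ) c (dbl e b) = M c b := by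
  rw [Matrix.mul_apply, Finset.sum_eq_single b]
  · rw [Matrix.transpose_apply, Emat_apply, if_pos rfl, mul_one]
  · intro d _ hd
    rw [Matrix.transpose_apply, Emat_apply,
      if_neg (fun h => hd (dbl_injective e.injective h).symm), mul_zero]
  · intro h; exact absurd (Finset.mem_univ _) h

theorem BENT_mul_Emat_transpose_apply_notMem {α : Type*} [Fintype α] (e : ι ↪ κ)
    (M : Matrix α (ι ⊕ ι) K) (c : α) (q : κ ⊕ κ) (hq : q ∉ Set.range (dbl e)) :
    (M * (Emat K e)ᵀ) c q = 0 := by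
  rw [Matrix.mul_apply]
  apply Finset.sum_eq_zero
  intro d _
  rw [Matrix.transpose_apply, Emat_apply, if_neg (fun h => hq ⟨d, h.symm⟩), mul_zero]

-- PIECE (BENT)
theorem blkMat_apply_dbl (e : ι ↪ κ) (g : Matrix (ι ⊕ ι) (ι ⊕ ι) K) (a b : ι ⊕ ι) :
    blkMat e g (dbl e a) (dbl e b) = g a b := by
  unfold blkMat
  rw [Matrix.add_apply, BENT_mul_Emat_transpose_apply, BENT_Emat_mul_apply, Matrix.sub_apply,
    Matrix.one_apply, Matrix.one_apply]
  by_cases hab : a = b
  · subst hab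
    rw [if_pos rfl, if_pos rfl]
    ring
  · rw [if_neg hab, if_neg (fun h => hab (dbl_injective e.injective h))]
    ring

theorem blkMat_apply_of_notMem (e : ι ↪ κ) (g : Matrix (ι ⊕ ι) (ι ⊕ ι) K) (p q : κ ⊕ κ)
    (h : p ∉ Set.range (dbl e) ∨ q ∉ Set.range (dbl e)) :
    blkMat e g p q = (1 : Matrix (κ ⊕ κ) (κ ⊕ κ) K) p q := by
  unfold blkMat
  rw [Matrix.add_apply]
  rcases h with h | h
  · rw [Matrix.mul_assoc, BENT_Emat_mul_apply_notMem e _ p q h, add_zero]
  · rw [BENT_mul_Emat_transpose_apply_notMem e _ p q h, add_zero]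

end Cfsg.Agent.Helper64.SpBlk
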