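import Cfsg.Agent.Helper64.SpBlk.Model
import Cfsg.Agent.Helper1.SLNP.Main
import Cfsg.Agent.Helper64.SpBlk.P_BENT
/-! (BLVS) for S2292 (architect helper15; MODEL block architect helper64; piece by helper81).

`jM (eS4 g) = lvS (eN g)`: both sides are the explicit matrix `diag(A, A⁻ᵀ)` with `A = eNMat g` (`g` on the
coordinates `p0, p1`, identity elsewhere). -/
set_option autoImplicit false
namespace Cfsg.Agent.Helper64.SpBlk
open Matrix Cfsg.Agent.Helper15.PSp Cfsg.Agent.Helper1.SLNP Cfsg.Agent.Helper1.SL3P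
  Cfsg.Agent.Helper96.StC Cfsg.Agent.Helper29.StCM Cfsg.Agent.Helper96.StemSLTwo Cfsg.Agent.Helper96.StPres
  Cfsg.Agent.Helper9.Sp4P
universe u
variable {K : Type u} [Field K] {ι κ : Type*} [Fintype ι] [DecidableEq ι] [Fintype κ] [DecidableEq κ]

theorem BLVS_eNMat_transpose (m : ℕ) (d : Matrix (Fin 2) (Fin 2) K) :
    (eNMat K m d)ᵀ = eNMat K m dᵀ := by
  ext i j
  simp only [Matrix.transpose_apply, eNMat, Matrix.of_apply]
  obtain ⟨i, hi⟩ := i
  obtain ⟨j, hj⟩ := j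
  rcases i with _ | _ | i <;> rcases j with _ | _ | j <;>
    simp [p0, p1, Fin.ext_iff, eq_comm]

theorem BLVS_eNMat_outside (m : ℕ) (d : Matrix (Fin 2) (Fin 2) K) (i j : Fin (m + 4))
    (h : (i ≠ p0 m ∧ i ≠ p1 m) ∨ (j ≠ p0 m ∧ j ≠ p1 m)) :
    eNMat K m d i j = (1 : Matrix (Fin (m + 4)) (Fin (m + 4)) K) i j := by
  simp only [eNMat, Matrix.of_apply, Matrix.one_apply]
  rcases h with ⟨h0, h1⟩ | ⟨h0, h1⟩ <;> simp [h0, h1]

theorem BLVS_eNMat_e01 (m : ℕ) (d : Matrix (Fin 2) (Fin 2) K) (x y : Fin 2) :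
    eNMat K m d (e01 m x) (e01 m y) = d x y := by
  have h01 := p0_ne_p1 m
  have h10 := (p0_ne_p1 m).symm
  fin_cases x <;> fin_cases y <;>
    simp only [Fin.zero_eta, Fin.mk_one, e01_zero, e01_one, eNMat, Matrix.of_apply] <;>
    simp [h01, h10]

theorem BLVS_notMem (m : ℕ) (q : Fin (m + 4) ⊕ Fin (m + 4))
    (hq : q ∉ Set.range (dbl (e01 m))) :
    ∃ j, (q = Sum.inl j ∨ q = Sum.inr j) ∧ j ≠ p0 m ∧ j ≠ p1 m := by
  rcases q with j | j
  · refine ⟨j, Or.inl rfl, ?_, ?_⟩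
    · rintro rfl
      exact hq ⟨Sum.inl 0, rfl⟩
    · rintro rfl
      exact hq ⟨Sum.inl 1, rfl⟩
  · refine ⟨j, Or.inr rfl, ?_, ?_⟩
    · rintro rfl
      exact hq ⟨Sum.inr 0, rfl⟩
    · rintro rfl
      exact hq ⟨Sum.inr 1, rfl⟩

theorem BLVS_fromBlocks_outside (m : ℕ) (a d : Matrix (Fin 2) (Fin 2) K)
    (p q : Fin (m + 4) ⊕ Fin (m + 4))
    (h : p ∉ Set.range (dbl (e01 m)) ∨ q ∉ Set.range (dbl (e01 m))) :
    fromBlocks (eNMat K m a) 0 0 (eNMat K m d) p q =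
      (1 : Matrix (Fin (m + 4) ⊕ Fin (m + 4)) (Fin (m + 4) ⊕ Fin (m + 4)) K) p q := by
  rcases p with i | i <;> rcases q with j | j
  · rw [Matrix.fromBlocks_apply₁₁, Matrix.one_apply, BLVS_eNMat_outside, Matrix.one_apply]
    · simp only [Sum.inl.injEq]
    · rcases h with h | h
      · obtain ⟨k, hk, h0, h1⟩ := BLVS_notMem m _ h
        rcases hk with hk | hk
        · cases hk; exact Or.inl ⟨h0, h1⟩
        · cases hk
      · obtain ⟨k, hk, h0, h1⟩ := BLVS_notMem m _ h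
        rcases hk with hk | hk
        · cases hk; exact Or.inr ⟨h0, h1⟩
        · cases hk
  · rw [Matrix.fromBlocks_apply₁₂, Matrix.one_apply, if_neg (by simp), Matrix.zero_apply]
  · rw [Matrix.fromBlocks_apply₂₁, Matrix.one_apply, if_neg (by simp), Matrix.zero_apply]
  · rw [Matrix.fromBlocks_apply₂₂, Matrix.one_apply, BLVS_eNMat_outside, Matrix.one_apply]
    · simp only [Sum.inr.injEq]
    · rcases h with h | h
      · obtain ⟨k, hk, h0, h1⟩ := BLVS_notMem m _ h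
        rcases hk with hk | hk
        · cases hk
        · cases hk; exact Or.inl ⟨h0, h1⟩
      · obtain ⟨k, hk, h0, h1⟩ := BLVS_notMem m _ h
        rcases hk with hk | hk
        · cases hk
        · cases hk; exact Or.inr ⟨h0, h1⟩

theorem BLVS_blkMat_fromBlocks (m : ℕ) (a d : Matrix (Fin 2) (Fin 2) K) :
    blkMat (e01 m) (fromBlocks a 0 0 d) = fromBlocks (eNMat K m a) 0 0 (eNMat K m d) := by
  ext p q
  by_cases hp : p ∈ Set.range (dbl (e01 m))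
  · by_cases hq : q ∈ Set.range (dbl (e01 m))
    · obtain ⟨x, rfl⟩ := hp
      obtain ⟨y, rfl⟩ := hq
      rw [blkMat_apply_dbl]
      rcases x with x | x <;> rcases y with y | y <;>
        simp only [dbl_inl, dbl_inr, Matrix.fromBlocks_apply₁₁, Matrix.fromBlocks_apply₁₂,
          Matrix.fromBlocks_apply₂₁, Matrix.fromBlocks_apply₂₂, BLVS_eNMat_e01, Matrix.zero_apply]
    · rw [blkMat_apply_of_notMem _ _ _ _ (Or.inr hq), BLVS_fromBlocks_outside _ _ _ _ _ (Or.inr hq)]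
  · rw [blkMat_apply_of_notMem _ _ _ _ (Or.inl hp), BLVS_fromBlocks_outside _ _ _ _ _ (Or.inl hp)]

-- PIECE (BLVS)
theorem jM_eS4 (m : ℕ) (g : SL2 K) :
    jM K m (eS4 K g) = Cfsg.Agent.Helper84.PSp.lvS (m + 4) K (eN K m g) := by
  apply Subtype.ext
  have hL : ((jM K m (eS4 K g) : Matrix.symplecticGroup (Fin (m + 4)) K) :
      Matrix (Fin (m + 4) ⊕ Fin (m + 4)) (Fin (m + 4) ⊕ Fin (m + 4)) K) =
      blkMat (e01 m) (fromBlocks (g : Matrix (Fin 2) (Fin 2) K) 0 0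
        ((g⁻¹ : SL2 K) : Matrix (Fin 2) (Fin 2) K)ᵀ) := by
    show blkMat (e01 m) ((Cfsg.Agent.Helper9.Sp4P.eS K g : Matrix.symplecticGroup (Fin 2) K) :
      Matrix (Fin 2 ⊕ Fin 2) (Fin 2 ⊕ Fin 2) K) = _
    rw [coe_eS]
  have hR : ((Cfsg.Agent.Helper84.PSp.lvS (m + 4) K (eN K m g) :
      Matrix.symplecticGroup (Fin (m + 4)) K) :
      Matrix (Fin (m + 4) ⊕ Fin (m + 4)) (Fin (m + 4) ⊕ Fin (m + 4)) K) =
      fromBlocks (eNMat K m g.1) 0 0 (eNMat K m (g⁻¹ : SL2 K).1)ᵀ := by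
    rw [Cfsg.Agent.Helper84.PSp.lvS_apply, Cfsg.Agent.Helper84.PSp.coe_lv]
    have h1 : ((Matrix.SpecialLinearGroup.toGL (eN K m g) : GL (Fin (m + 4)) K) :
        Matrix (Fin (m + 4)) (Fin (m + 4)) K) = eNMat K m g.1 :=
      coe_eN K m (iota3_apply K m) g
    have h2 : (((Matrix.SpecialLinearGroup.toGL (eN K m g))⁻¹ : GL (Fin (m + 4)) K) :
        Matrix (Fin (m + 4)) (Fin (m + 4)) K) = eNMat K m (g⁻¹ : SL2 K).1 := by
      rw [← map_inv, ← map_inv]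
      exact coe_eN K m (iota3_apply K m) g⁻¹
    rw [h1, h2]
  rw [hL, hR, BLVS_blkMat_fromBlocks, BLVS_eNMat_transpose]

end Cfsg.Agent.Helper64.SpBlk
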