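import Cfsg.Agent.Helper64.SpBlk.Model
import Cfsg.Agent.Helper1.SLNP.Main
import Cfsg.Agent.Helper64.SpBlk.P_BLVS
/-! (MCR) for S2292 (architect helper15; MODEL block architect helper64): the cross relations of the model. -/
set_option autoImplicit false
namespace Cfsg.Agent.Helper64.SpBlk
open Matrix Cfsg.Agent.Helper15.PSp Cfsg.Agent.Helper1.SLNP Cfsg.Agent.Helper1.SL3P
  Cfsg.Agent.Helper96.StC Cfsg.Agent.Helper29.StCM Cfsg.Agent.Helper96.StemSLTwo Cfsg.Agent.Helper96.StPres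
  Cfsg.Agent.Helper9.Sp4P
universe u
variable {K : Type u} [Field K] {ι κ : Type*} [Fintype ι] [DecidableEq ι] [Fintype κ] [DecidableEq κ]

theorem MCR_comp (m : ℕ) :
    (jM K m).comp (eS4 K) = (Cfsg.Agent.Helper84.PSp.lvS (m + 4) K).comp (eN K m) := by
  apply MonoidHom.ext
  intro g
  rw [MonoidHom.comp_apply, MonoidHom.comp_apply, jM_eS4]

theorem MCR_c (m : ℕ) :
    rhoS K m (c012 m) = Cfsg.Agent.Helper84.PSp.lvS (m + 4) K (rhoM K m (c012 m)) := rfl

-- PIECE (MCR)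
theorem cross2_model (m : ℕ) : Cross2 ((jM K m).comp (eS4 K)) (rhoS K m (c012 m)) := by
  rw [MCR_comp, MCR_c]
  have h := (cross_map (Cfsg.Agent.Helper84.PSp.lvS (m + 4) K) (eN K m) (rhoM K m (c012 m))
    (1 : Kˣ)).1 (crossB_modelN K m 1)
  exact ⟨h.cw, h.mul⟩

theorem crossE_model4 (m : ℕ) (z : Kˣ) : CrossE ((jM K m).comp (eS4 K)) (rhoS K m (c012 m)) z := by
  rw [MCR_comp, MCR_c]
  exact (cross_map (Cfsg.Agent.Helper84.PSp.lvS (m + 4) K) (eN K m) (rhoM K m (c012 m)) z).2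
    (crossE_modelN K m z)

end Cfsg.Agent.Helper64.SpBlk
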