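import Cfsg.Agent.Helper64.SpBlk.Model
import Cfsg.Agent.Helper1.SLNP.Main
/-! (BCONJ) for S2292 (architect helper15; MODEL block architect helper64), filled by helper87. -/
set_option autoImplicit false
set_option linter.unusedSectionVars false
namespace Cfsg.Agent.Helper64.SpBlk
open Matrix Cfsg.Agent.Helper15.PSp Cfsg.Agent.Helper1.SLNP Cfsg.Agent.Helper1.SL3P
  Cfsg.Agent.Helper96.StC Cfsg.Agent.Helper29.StCM Cfsg.Agent.Helper96.StemSLTwo Cfsg.Agent.Helper96.StPres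
  Cfsg.Agent.Helper9.Sp4P
universe u
variable {K : Type u} [Field K] {ι κ : Type*} [Fintype ι] [DecidableEq ι] [Fintype κ] [DecidableEq κ]

theorem BCONJ_dbl_trans (σ : Equiv.Perm κ) (e : ι ↪ κ) (a : ι ⊕ ι) :
    dbl (e.trans σ.toEmbedding) a = dbl σ (dbl e a) := by
  cases a <;> rfl

/-- `P * E_e = E_{σ ∘ e}` -/
theorem BCONJ_mul_Emat (P : Matrix (κ ⊕ κ) (κ ⊕ κ) K) (σ : Equiv.Perm κ)
    (hP : ∀ p q, P p q = if p = dbl σ q then 1 else 0) (e : ι ↪ κ) :
    P * Emat K e = Emat K (e.trans σ.toEmbedding) := by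
  ext p a
  rw [Matrix.mul_apply, Emat_apply, BCONJ_dbl_trans]
  rw [Finset.sum_eq_single (dbl e a)]
  · rw [hP, Emat_apply, if_pos rfl, mul_one]
  · intro b _ hb
    rw [Emat_apply, if_neg hb, mul_zero]
  · intro h; exact absurd (Finset.mem_univ _) h

/-- `E_{σ ∘ e}ᵀ * P = E_eᵀ` -/
theorem BCONJ_Emat_transpose_mul (P : Matrix (κ ⊕ κ) (κ ⊕ κ) K) (σ : Equiv.Perm κ)
    (hP : ∀ p q, P p q = if p = dbl σ q then 1 else 0) (e : ι ↪ κ) :
    (Emat K (e.trans σ.toEmbedding))ᵀ * P = (Emat K e)ᵀ := by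
  have hinj : Function.Injective (dbl (σ : κ → κ)) := dbl_injective σ.injective
  ext a q
  rw [Matrix.mul_apply, Matrix.transpose_apply, Emat_apply]
  rw [Finset.sum_eq_single (dbl σ (dbl e a))]
  · rw [Matrix.transpose_apply, Emat_apply, BCONJ_dbl_trans, if_pos rfl, one_mul, hP]
    by_cases h : q = dbl e a
    · rw [if_pos h, if_pos (by rw [h])]
    · rw [if_neg h, if_neg (fun h' => h (hinj h').symm)]
  · intro b _ hb
    rw [Matrix.transpose_apply, Emat_apply, BCONJ_dbl_trans, if_neg hb, zero_mul]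
  · intro h; exact absurd (Finset.mem_univ _) h

-- PIECE (BCONJ)
theorem blk_conj (P : Matrix.symplecticGroup κ K) (σ : Equiv.Perm κ)
    (hP : ∀ p q, (P : Matrix (κ ⊕ κ) (κ ⊕ κ) K) p q = if p = dbl σ q then 1 else 0)
    (e : ι ↪ κ) (g : Matrix.symplecticGroup ι K) :
    P * blk e g * P⁻¹ = blk (e.trans σ.toEmbedding) g := by
  rw [mul_inv_eq_iff_eq_mul]
  apply Subtype.ext
  set PM : Matrix (κ ⊕ κ) (κ ⊕ κ) K := (P : Matrix (κ ⊕ κ) (κ ⊕ κ) K) with hPM
  show PM * blkMat e g.1 = blkMat (e.trans σ.toEmbedding) g.1 * PM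
  have h1 : PM * Emat K e = Emat K (e.trans σ.toEmbedding) := BCONJ_mul_Emat PM σ hP e
  have h2 : (Emat K (e.trans σ.toEmbedding))ᵀ * PM = (Emat K e)ᵀ := BCONJ_Emat_transpose_mul PM σ hP e
  unfold blkMat
  rw [Matrix.mul_add, Matrix.add_mul, Matrix.mul_one, Matrix.one_mul]
  congr 1
  calc PM * (Emat K e * (g.1 - 1) * (Emat K e)ᵀ)
      = (PM * Emat K e) * (g.1 - 1) * (Emat K e)ᵀ := by
        simp only [Matrix.mul_assoc]
    _ = Emat K (e.trans σ.toEmbedding) * (g.1 - 1) * ((Emat K (e.trans σ.toEmbedding))ᵀ * PM) := by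
        rw [h1, h2]
    _ = Emat K (e.trans σ.toEmbedding) * (g.1 - 1) * (Emat K (e.trans σ.toEmbedding))ᵀ * PM := by
        simp only [Matrix.mul_assoc]

end Cfsg.Agent.Helper64.SpBlk
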