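import Cfsg.Agent.Helper64.SpBlk.Model
import Cfsg.Agent.Helper1.SLNP.Main
/-! (BRHO) for S2292 (architect helper15; MODEL block architect helper64; piece by helper23).

The entries of `rhoS K m π = diag(P_π, P_π)`. -/
set_option autoImplicit false
namespace Cfsg.Agent.Helper64.SpBlk
open Matrix Cfsg.Agent.Helper15.PSp Cfsg.Agent.Helper1.SLNP Cfsg.Agent.Helper1.SL3P
  Cfsg.Agent.Helper96.StC Cfsg.Agent.Helper29.StCM Cfsg.Agent.Helper96.StemSLTwo Cfsg.Agent.Helper96.StPres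
  Cfsg.Agent.Helper9.Sp4P
universe u
variable {K : Type u} [Field K] {ι κ : Type*} [Fintype ι] [DecidableEq ι] [Fintype κ] [DecidableEq κ]

theorem BRHO_coe (m : ℕ) (π : Alt m) :
    ((rhoS K m π : Matrix.symplecticGroup (Fin (m + 4)) K) :
      Matrix (Fin (m + 4) ⊕ Fin (m + 4)) (Fin (m + 4) ⊕ Fin (m + 4)) K) =
      fromBlocks ((rhoM K m π : SLN m K) : Matrix (Fin (m + 4)) (Fin (m + 4)) K) 0 0
        ((rhoM K m π⁻¹ : SLN m K) : Matrix (Fin (m + 4)) (Fin (m + 4)) K)ᵀ := by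
  show ((Cfsg.Agent.Helper84.PSp.lv (m + 4) K (Matrix.SpecialLinearGroup.toGL (rhoM K m π)) :
    Matrix.symplecticGroup (Fin (m + 4)) K) :
      Matrix (Fin (m + 4) ⊕ Fin (m + 4)) (Fin (m + 4) ⊕ Fin (m + 4)) K) = _
  rw [Cfsg.Agent.Helper84.PSp.coe_lv, ← map_inv, ← map_inv]
  rfl

-- PIECE (BRHO)
theorem coe_rhoS (m : ℕ) (π : Alt m) (p q : Fin (m + 4) ⊕ Fin (m + 4)) :
    ((rhoS K m π : Matrix.symplecticGroup (Fin (m + 4)) K) :
      Matrix (Fin (m + 4) ⊕ Fin (m + 4)) (Fin (m + 4) ⊕ Fin (m + 4)) K) p q =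
      if p = dbl π.1 q then 1 else 0 := by
  rw [BRHO_coe]
  rcases p with i | i <;> rcases q with j | j
  · rw [fromBlocks_apply₁₁, coe_rhoM, dbl_inl]
    simp only [Sum.inl.injEq]
  · rw [fromBlocks_apply₁₂, dbl_inr, if_neg (by simp)]
    rfl
  · rw [fromBlocks_apply₂₁, dbl_inl, if_neg (by simp)]
    rfl
  · rw [fromBlocks_apply₂₂, Matrix.transpose_apply, coe_rhoM, dbl_inr]
    simp only [Sum.inr.injEq]
    congr 1
    rw [eq_iff_iff]
    have : ((π⁻¹ : Alt m) : Equiv.Perm (Fin (m + 4))) = (π.1)⁻¹ := rfl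
    rw [this]
    constructor
    · intro h; rw [h]; simp
    · intro h; rw [h]; simp

end Cfsg.Agent.Helper64.SpBlk
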