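import Cfsg.Agent.Helper64.SpBlk.Model
import Cfsg.Agent.Helper1.SLNP.Main
/-! (BSPT) for S2292 (architect helper15; MODEL block architect helper64), filled by helper87. -/
set_option autoImplicit false
set_option linter.unusedSectionVars false
namespace Cfsg.Agent.Helper64.SpBlk
open Matrix Cfsg.Agent.Helper15.PSp Cfsg.Agent.Helper1.SLNP Cfsg.Agent.Helper1.SL3P
  Cfsg.Agent.Helper96.StC Cfsg.Agent.Helper29.StCM Cfsg.Agent.Helper96.StemSLTwo Cfsg.Agent.Helper96.StPres
  Cfsg.Agent.Helper9.Sp4P
universe u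
variable {K : Type u} [Field K] {ι κ : Type*} [Fintype ι] [DecidableEq ι] [Fintype κ] [DecidableEq κ]

/-- `E * single a b c * Eᵀ = single (dbl e a) (dbl e b) c` -/
theorem BSPT_single (e : ι ↪ κ) (a b : ι ⊕ ι) (c : K) :
    Emat K e * Matrix.single a b c * (Emat K e)ᵀ = Matrix.single (dbl e a) (dbl e b) c := by
  ext x y
  rw [Matrix.mul_apply]
  rw [Finset.sum_eq_single b]
  · rw [Matrix.mul_apply, Finset.sum_eq_single a]
    · rw [Matrix.single_apply_same, Matrix.transpose_apply, Emat_apply, Emat_apply, Matrix.single_apply]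
      by_cases hx : x = dbl e a
      · by_cases hy : y = dbl e b
        · rw [if_pos hx, if_pos hy, if_pos ⟨hx.symm, hy.symm⟩, one_mul, mul_one]
        · rw [if_neg hy, mul_zero, if_neg (fun h => hy h.2.symm)]
      · rw [if_neg hx, zero_mul, zero_mul, if_neg (fun h => hx h.1.symm)]
    · intro i _ hi
      rw [Matrix.single_apply_of_row_ne (Ne.symm hi), mul_zero]
    · intro h; exact absurd (Finset.mem_univ _) h
  · intro j _ hj
    have : (Emat K e * Matrix.single a b c) x j = 0 := by
      rw [Matrix.mul_apply]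
      apply Finset.sum_eq_zero
      intro i _
      rw [Matrix.single_apply_of_col_ne _ _ (Ne.symm hj), mul_zero]
    rw [this, zero_mul]
  · intro h; exact absurd (Finset.mem_univ _) h

theorem BSPT_bar_dbl (e : ι → κ) (p : ι ⊕ ι) : bar (dbl e p) = dbl e (bar p) := by
  cases p <;> rfl

theorem BSPT_eps_dbl (e : ι → κ) (p q : ι ⊕ ι) : eps K (dbl e p) (dbl e q) = eps K p q := by
  cases p <;> cases q <;> rfl

-- PIECE (BSPT)
theorem blk_spT {n m : ℕ} (e : Fin n ↪ Fin m) (p q : Fin n ⊕ Fin n) (hpq : p ≠ q) (t : K) :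
    blk e (spT p q t) = spT (dbl e p) (dbl e q) t := by
  have hinj : Function.Injective (dbl (e : Fin n → Fin m)) := dbl_injective e.injective
  have hpq' : dbl e p ≠ dbl e q := fun h => hpq (hinj h)
  apply Subtype.ext
  rw [coe_blk, spT_coe hpq, spT_coe hpq']
  unfold blkMat spM
  by_cases hq : q = bar p
  · have hq' : dbl e q = bar (dbl e p) := by rw [hq, BSPT_bar_dbl]
    rw [if_pos hq, if_pos hq', add_sub_cancel_left, BSPT_single]
  · have hq' : dbl e q ≠ bar (dbl e p) := by
      rw [BSPT_bar_dbl]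
      exact fun h => hq (hinj h)
    rw [if_neg hq, if_neg hq']
    have h1 : (1 + Matrix.single p q t - Matrix.single (bar q) (bar p) (eps K p q * t) - 1 :
        Matrix (Fin n ⊕ Fin n) (Fin n ⊕ Fin n) K) =
        Matrix.single p q t - Matrix.single (bar q) (bar p) (eps K p q * t) := by abel
    rw [h1, Matrix.mul_sub, Matrix.sub_mul, BSPT_single, BSPT_single, BSPT_bar_dbl, BSPT_bar_dbl,
      BSPT_eps_dbl]
    abel

end Cfsg.Agent.Helper64.SpBlk
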