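import Cfsg.Agent.Helper64.SpBlk.Model
import Cfsg.Agent.Helper1.SLNP.Main
import Cfsg.Agent.Helper64.SpBlk.P_BRHO
import Cfsg.Agent.Helper64.SpBlk.P_BCONJ
import Cfsg.Agent.Helper64.SpBlk.P_BSPT
/-! (MXC) for S2292 (architect helper15; MODEL block architect helper64): the root elements of the model. -/
set_option autoImplicit false
namespace Cfsg.Agent.Helper64.SpBlk
open Matrix Cfsg.Agent.Helper15.PSp Cfsg.Agent.Helper1.SLNP Cfsg.Agent.Helper1.SL3P
  Cfsg.Agent.Helper96.StC Cfsg.Agent.Helper29.StCM Cfsg.Agent.Helper96.StemSLTwo Cfsg.Agent.Helper96.StPres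
  Cfsg.Agent.Helper9.Sp4P
universe u
variable {K : Type u} [Field K] {ι κ : Type*} [Fintype ι] [DecidableEq ι] [Fintype κ] [DecidableEq κ]

theorem MXC_pick (m : ℕ) (i j : Fin (m + 4)) (hij : i ≠ j) :
    (pick m i j).1 (p0 m) = i ∧ (pick m i j).1 (p1 m) = j := by
  have h := exists_alt_two m i j hij
  unfold pick
  rw [dif_pos h]
  exact Classical.choose_spec h

-- PIECE (MXC)
theorem AF_model (m : ℕ) (i j : Fin (m + 4)) (hij : i ≠ j) (p q : Fin 2 ⊕ Fin 2) (hpq : p ≠ q) (t : K) :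
    AF (jM K m) (rhoS K m) i j (spT p q t) = spT (em i j p) (em i j q) t := by
  obtain ⟨h0, h1⟩ := MXC_pick m i j hij
  rw [AF_apply]
  unfold jM
  rw [blk_conj (rhoS K m (pick m i j)) (pick m i j).1 (coe_rhoS m (pick m i j)) (e01 m) (spT p q t),
    blk_spT _ p q hpq t]
  have h : ∀ r : Fin 2 ⊕ Fin 2, dbl ((e01 m).trans (pick m i j).1.toEmbedding) r = em i j r := by
    intro r
    rcases r with r | r <;> fin_cases r <;> simp [dbl, Cfsg.Agent.Helper15.PSp.em, h0, h1]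
  rw [h, h]

theorem MXC_XC_same {D : Type*} [Group D] {n : ℕ} (A : Fin n → Fin n → (Sp4 K →* D)) (o : Fin n → Fin n)
    (p q : Fin n ⊕ Fin n) (h : idx p = idx q) (t : K) :
    XC A o p q t = A (idx p) (o (idx p)) (spT (sd p 0) (bar (sd p 0)) t) := if_pos h

theorem MXC_XC_diff {D : Type*} [Group D] {n : ℕ} (A : Fin n → Fin n → (Sp4 K →* D)) (o : Fin n → Fin n)
    (p q : Fin n ⊕ Fin n) (h : idx p ≠ idx q) (t : K) :
    XC A o p q t = A (idx p) (idx q) (spT (sd p 0) (sd q 1) t) := if_neg h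

theorem XC_model (m : ℕ) (o : Fin (m + 4) → Fin (m + 4)) (ho : ∀ i, o i ≠ i)
    (p q : Fin (m + 4) ⊕ Fin (m + 4)) (hpq : p ≠ q) (t : K) :
    XC (AF (jM K m) (rhoS K m)) o p q t = spT p q t := by
  have hne1 : (Sum.inl 0 : Fin 2 ⊕ Fin 2) ≠ Sum.inr 0 := by simp
  have hne2 : (Sum.inr 0 : Fin 2 ⊕ Fin 2) ≠ Sum.inl 0 := by simp
  have hne3 : (Sum.inl 0 : Fin 2 ⊕ Fin 2) ≠ Sum.inl 1 := by simp
  have hne4 : (Sum.inl 0 : Fin 2 ⊕ Fin 2) ≠ Sum.inr 1 := by simp
  have hne5 : (Sum.inr 0 : Fin 2 ⊕ Fin 2) ≠ Sum.inl 1 := by simp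
  have hne6 : (Sum.inr 0 : Fin 2 ⊕ Fin 2) ≠ Sum.inr 1 := by simp
  by_cases h : idx p = idx q
  · rw [MXC_XC_same _ _ _ _ h]
    rcases p with a | a <;> rcases q with b | b
    · exact absurd (congrArg Sum.inl h) hpq
    · have h' : a = b := h
      subst h'
      exact AF_model m a (o a) (ho a).symm _ _ hne1 t
    · have h' : a = b := h
      subst h'
      exact AF_model m a (o a) (ho a).symm _ _ hne2 t
    · exact absurd (congrArg Sum.inr h) hpq
  · rw [MXC_XC_diff _ _ _ _ h]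
    rcases p with a | a <;> rcases q with b | b
    · exact AF_model m a b h _ _ hne3 t
    · exact AF_model m a b h _ _ hne4 t
    · exact AF_model m a b h _ _ hne5 t
    · exact AF_model m a b h _ _ hne6 t

end Cfsg.Agent.Helper64.SpBlk
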