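import Cfsg.Agent.Helper64.SpBlk.P_MGL
import Cfsg.Agent.Helper64.SpBlk.P_MCR
import Cfsg.Agent.Helper64.SpBlk.P_MXC

/-!
# The model block (4a) of S2292: `Sp_{2n}(K)`, `n = m + 4`, contains `Sp₄(K)` and `A_n` subject to the relators

`jM K m = blk (e01 m) : Sp₄(K) →* Sp_{2n}(K)` (the hyperbolic pairs `0, 1`), `rhoS K m π = diag(P_π, P_π)`.
In namespace `Cfsg.Agent.Helper64.SpBlk` (`K` implicit, `m` explicit): `glue4_model`, `cross2_model`,
`crossE_model4`, `AF_model`, `XC_model`.  In namespace `Cfsg.Agent.Helper64.SpBlk.Final` the same statements in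
the exact shape of helper9's assembly stub (`K`, `m` explicit, `crossE_model`).

Pieces: BENT, BRHO (helper23), BCONJ, BSPT (helper87), BSWAP, BLONG (helper55), BCOMM, MGL (helper30), BLVS (helper81),
Defs, Model, MXC, MCR (helper64).
-/

set_option autoImplicit false

namespace Cfsg.Agent.Helper64.SpBlk.Final

open Matrix Cfsg.Agent.Helper15.PSp Cfsg.Agent.Helper1.SLNP Cfsg.Agent.Helper1.SL3P
  Cfsg.Agent.Helper96.StC Cfsg.Agent.Helper29.StCM Cfsg.Agent.Helper96.StemSLTwo Cfsg.Agent.Helper96.StPres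
  Cfsg.Agent.Helper9.Sp4P

universe u

variable (K : Type u) [Field K] (m : ℕ)

/-- the block embedding `Sp₄(K) →* Sp_{2(m+4)}(K)` on the hyperbolic pairs `0, 1` -/
abbrev jM : Sp4 K →* Matrix.symplecticGroup (Fin (m + 4)) K := Cfsg.Agent.Helper64.SpBlk.jM K m

/-- the even permutation matrices `diag(P_π, P_π)` -/
noncomputable abbrev rhoS : Alt m →* Matrix.symplecticGroup (Fin (m + 4)) K :=
  Cfsg.Agent.Helper64.SpBlk.rhoS K m

theorem glue4_model : Glue4 (jM K m) (rhoS K m) := Cfsg.Agent.Helper64.SpBlk.glue4_model m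

theorem cross2_model : Cross2 ((jM K m).comp (eS4 K)) (rhoS K m (c012 m)) :=
  Cfsg.Agent.Helper64.SpBlk.cross2_model m

theorem crossE_model (z : Kˣ) : CrossE ((jM K m).comp (eS4 K)) (rhoS K m (c012 m)) z :=
  Cfsg.Agent.Helper64.SpBlk.crossE_model4 m z

theorem XC_model (o : Fin (m + 4) → Fin (m + 4)) (ho : ∀ i, o i ≠ i)
    (p q : Fin (m + 4) ⊕ Fin (m + 4)) (hpq : p ≠ q) (t : K) :
    XC (AF (jM K m) (rhoS K m)) o p q t = spT p q t :=
  Cfsg.Agent.Helper64.SpBlk.XC_model m o ho p q hpq t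

end Cfsg.Agent.Helper64.SpBlk.Final
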