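import Mathlib

/-!
# Block embeddings of symplectic groups (model side of S2292)

For an embedding `e : ι ↪ κ` of index sets, `blk e : Sp(ι ⊕ ι) →* Sp(κ ⊕ κ)` extends a symplectic matrix
on the hyperbolic pairs indexed by `ι` by the identity on the other pairs:
`blkMat e g = 1 + E (g - 1) Eᵀ` with `E = Emat e` the `0/1` matrix of `Sum.map e e`.
`permS σ` is the symplectic permutation matrix `diag(P_σ, P_σ)` of a permutation `σ` of the pairs.
-/

set_option autoImplicit false
set_option linter.unusedSectionVars false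
set_option linter.unusedSimpArgs false

namespace Cfsg.Agent.Helper64.SpBlk

open Matrix

universe u

variable {K : Type u} [Field K] {ι κ : Type*} [Fintype ι] [DecidableEq ι] [Fintype κ] [DecidableEq κ]

/-- the map of doubled index sets induced by a map of index sets -/
def dbl (e : ι → κ) : ι ⊕ ι → κ ⊕ κ := Sum.map e e

@[simp] theorem dbl_inl (e : ι → κ) (i : ι) : dbl e (Sum.inl i) = Sum.inl (e i) := rfl
@[simp] theorem dbl_inr (e : ι → κ) (i : ι) : dbl e (Sum.inr i) = Sum.inr (e i) := rfl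

theorem dbl_injective {e : ι → κ} (he : Function.Injective e) : Function.Injective (dbl e) :=
  Sum.map_injective.mpr ⟨he, he⟩

variable (K) in
/-- the `0/1` matrix of `dbl e` -/
def Emat (e : ι ↪ κ) : Matrix (κ ⊕ κ) (ι ⊕ ι) K :=
  Matrix.of fun p a => if p = dbl e a then 1 else 0

theorem Emat_apply (e : ι ↪ κ) (p : κ ⊕ κ) (a : ι ⊕ ι) :
    Emat K e p a = if p = dbl e a then 1 else 0 := rfl

theorem Emat_transpose_mul (e : ι ↪ κ) : (Emat K e)ᵀ * Emat K e = 1 := by
  ext a b
  rw [Matrix.mul_apply, Matrix.one_apply]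
  simp only [Matrix.transpose_apply, Emat_apply]
  by_cases hab : a = b
  · subst hab
    rw [if_pos rfl, Finset.sum_eq_single (dbl e a)]
    · simp
    · intro p _ hp; simp [hp]
    · intro h; exact absurd (Finset.mem_univ _) h
  · rw [if_neg hab]
    apply Finset.sum_eq_zero
    intro p _
    by_cases h1 : p = dbl e a
    · have h2 : p ≠ dbl e b := fun h => hab (dbl_injective e.injective (h1.symm.trans h))
      simp [h2]
    · simp [h1]

theorem sum_ite_ite_aux (e : ι ↪ κ) (p : κ) (a : ι) (c : K) :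
    (∑ x, if p = e x then (if a = x then c else 0) else 0) = if p = e a then c else 0 := by
  rw [Finset.sum_eq_single a]
  · simp
  · intro x _ hx
    have : a ≠ x := fun h => hx h.symm
    simp [this]
  · intro h; exact absurd (Finset.mem_univ _) h

theorem J_mul_Emat (e : ι ↪ κ) : Matrix.J κ K * Emat K e = Emat K e * Matrix.J ι K := by
  ext p a
  rw [Matrix.mul_apply, Matrix.mul_apply]
  rcases p with p | p <;> rcases a with a | a
  · simp [Matrix.J, Matrix.fromBlocks, Emat_apply, Matrix.one_apply, Matrix.neg_apply]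
  · simp only [Matrix.J, Matrix.fromBlocks, Emat_apply, Matrix.one_apply, Matrix.neg_apply,
      Matrix.of_apply, Fintype.sum_sum_type, Sum.elim_inl, Sum.elim_inr, dbl_inl, dbl_inr,
      Matrix.zero_apply, zero_mul, mul_zero, Finset.sum_const_zero, zero_add, add_zero,
      reduceCtorEq, if_false, Sum.inl.injEq, Sum.inr.injEq, ite_mul, one_mul, mul_ite, mul_one,
      mul_neg, neg_mul]
    have h1 : (∑ a₂, if a₂ = e a then -if p = a₂ then (1 : K) else 0 else 0) =
        -if p = e a then (1 : K) else 0 := by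
      rw [Finset.sum_eq_single (e a)]
      · simp
      · intro b _ hb; simp [hb]
      · intro h; exact absurd (Finset.mem_univ _) h
    have h2 : (∑ x, if p = e x then -if x = a then (1 : K) else 0 else 0) =
        -if p = e a then (1 : K) else 0 := by
      rw [Finset.sum_eq_single a]
      · by_cases hp : p = e a <;> simp [hp]
      · intro b _ hb; simp [hb]
      · intro h; exact absurd (Finset.mem_univ _) h
    rw [h1, h2]
  · simp only [Matrix.J, Matrix.fromBlocks, Emat_apply, Matrix.one_apply, Matrix.neg_apply,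
      Matrix.of_apply, Fintype.sum_sum_type, Sum.elim_inl, Sum.elim_inr, dbl_inl, dbl_inr,
      Matrix.zero_apply, zero_mul, mul_zero, Finset.sum_const_zero, zero_add, add_zero,
      reduceCtorEq, if_false, Sum.inl.injEq, Sum.inr.injEq, ite_mul, one_mul, mul_ite, mul_one,
      mul_neg, neg_mul]
    have h1 : (∑ a₁, if a₁ = e a then if p = a₁ then (1 : K) else 0 else 0) =
        if p = e a then (1 : K) else 0 := by
      rw [Finset.sum_eq_single (e a)]
      · simp
      · intro b _ hb; simp [hb]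
      · intro h; exact absurd (Finset.mem_univ _) h
    have h2 : (∑ x, if p = e x then if x = a then (1 : K) else 0 else 0) =
        if p = e a then (1 : K) else 0 := by
      rw [Finset.sum_eq_single a]
      · simp
      · intro b _ hb; simp [hb]
      · intro h; exact absurd (Finset.mem_univ _) h
    rw [h1, h2]
  · simp [Matrix.J, Matrix.fromBlocks, Emat_apply, Matrix.one_apply, Matrix.neg_apply]

/-- the matrix of the block embedding -/
def blkMat (e : ι ↪ κ) (g : Matrix (ι ⊕ ι) (ι ⊕ ι) K) : Matrix (κ ⊕ κ) (κ ⊕ κ) K :=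
  1 + Emat K e * (g - 1) * (Emat K e)ᵀ

theorem blkMat_one (e : ι ↪ κ) : blkMat e (1 : Matrix (ι ⊕ ι) (ι ⊕ ι) K) = 1 := by
  simp [blkMat]

theorem blkMat_mul (e : ι ↪ κ) (g g' : Matrix (ι ⊕ ι) (ι ⊕ ι) K) :
    blkMat e (g * g') = blkMat e g * blkMat e g' := by
  unfold blkMat
  have h := Emat_transpose_mul (K := K) e
  have : Emat K e * (g - 1) * (Emat K e)ᵀ * (Emat K e * (g' - 1) * (Emat K e)ᵀ) =
      Emat K e * ((g - 1) * (g' - 1)) * (Emat K e)ᵀ := by
    calc Emat K e * (g - 1) * (Emat K e)ᵀ * (Emat K e * (g' - 1) * (Emat K e)ᵀ)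
        = Emat K e * (g - 1) * ((Emat K e)ᵀ * Emat K e) * (g' - 1) * (Emat K e)ᵀ := by
          simp only [Matrix.mul_assoc]
      _ = Emat K e * ((g - 1) * (g' - 1)) * (Emat K e)ᵀ := by
          rw [h, Matrix.mul_one]; simp only [Matrix.mul_assoc]
  rw [Matrix.mul_add, Matrix.add_mul, Matrix.add_mul, Matrix.one_mul, Matrix.one_mul, Matrix.mul_one, this]
  have e2 : g * g' - 1 = (g - 1) + (g' - 1) + (g - 1) * (g' - 1) := by
    noncomm_ring
  rw [e2, Matrix.mul_add, Matrix.mul_add, Matrix.add_mul, Matrix.add_mul]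
  abel

theorem Emat_transpose_mul_J (e : ι ↪ κ) :
    (Emat K e)ᵀ * Matrix.J κ K = Matrix.J ι K * (Emat K e)ᵀ := by
  have h := congrArg Matrix.transpose (J_mul_Emat (K := K) e)
  rw [Matrix.transpose_mul, Matrix.transpose_mul, Matrix.J_transpose, Matrix.J_transpose,
    Matrix.mul_neg, Matrix.neg_mul, neg_inj] at h
  exact h

theorem blkMat_transpose (e : ι ↪ κ) (g : Matrix (ι ⊕ ι) (ι ⊕ ι) K) :
    (blkMat e g)ᵀ = blkMat e gᵀ := by
  unfold blkMat
  rw [Matrix.transpose_add, Matrix.transpose_one, Matrix.transpose_mul, Matrix.transpose_mul,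
    Matrix.transpose_transpose, Matrix.transpose_sub, Matrix.transpose_one, Matrix.mul_assoc]

theorem blkMat_mem (e : ι ↪ κ) {g : Matrix (ι ⊕ ι) (ι ⊕ ι) K}
    (hg : g ∈ Matrix.symplecticGroup ι K) : blkMat e g ∈ Matrix.symplecticGroup κ K := by
  rw [SymplecticGroup.mem_iff] at hg ⊢
  rw [blkMat_transpose]
  unfold blkMat
  have h1 := Emat_transpose_mul (K := K) e
  have h2 := J_mul_Emat (K := K) e
  have h3 := Emat_transpose_mul_J (K := K) e
  set E := Emat K e
  set X := g - 1 with hX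
  have hXt : gᵀ - 1 = Xᵀ := by rw [hX, Matrix.transpose_sub, Matrix.transpose_one]
  rw [hXt]
  have key : X * Matrix.J ι K + Matrix.J ι K * Xᵀ + X * Matrix.J ι K * Xᵀ = 0 := by
    have : g * Matrix.J ι K * gᵀ = (X + 1) * Matrix.J ι K * (Xᵀ + 1) := by
      rw [hX, Matrix.transpose_sub, Matrix.transpose_one]; simp
    rw [this] at hg
    have e2 : (X + 1) * Matrix.J ι K * (Xᵀ + 1) =
        X * Matrix.J ι K + Matrix.J ι K * Xᵀ + X * Matrix.J ι K * Xᵀ + Matrix.J ι K := by
      noncomm_ring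
    rw [e2] at hg
    exact add_eq_right.mp hg
  have t1 : E * X * Eᵀ * Matrix.J κ K = E * (X * Matrix.J ι K) * Eᵀ := by
    rw [Matrix.mul_assoc (E * X), h3]; simp only [Matrix.mul_assoc]
  have t2 : Matrix.J κ K * (E * Xᵀ * Eᵀ) = E * (Matrix.J ι K * Xᵀ) * Eᵀ := by
    rw [← Matrix.mul_assoc, ← Matrix.mul_assoc, h2]; simp only [Matrix.mul_assoc]
  have t3 : E * X * Eᵀ * Matrix.J κ K * (E * Xᵀ * Eᵀ) = E * (X * Matrix.J ι K * Xᵀ) * Eᵀ := by
    rw [t1]
    calc E * (X * Matrix.J ι K) * Eᵀ * (E * Xᵀ * Eᵀ)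
        = E * (X * Matrix.J ι K) * (Eᵀ * E) * Xᵀ * Eᵀ := by simp only [Matrix.mul_assoc]
      _ = E * (X * Matrix.J ι K * Xᵀ) * Eᵀ := by
          rw [h1, Matrix.mul_one]; simp only [Matrix.mul_assoc]
  calc (1 + E * X * Eᵀ) * Matrix.J κ K * (1 + E * Xᵀ * Eᵀ)
      = Matrix.J κ K + E * X * Eᵀ * Matrix.J κ K + Matrix.J κ K * (E * Xᵀ * Eᵀ) +
          E * X * Eᵀ * Matrix.J κ K * (E * Xᵀ * Eᵀ) := by noncomm_ring
    _ = Matrix.J κ K + E * (X * Matrix.J ι K + Matrix.J ι K * Xᵀ + X * Matrix.J ι K * Xᵀ) * Eᵀ := by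
        rw [t3, t1, t2]; simp only [Matrix.mul_add, Matrix.add_mul]; abel
    _ = Matrix.J κ K := by rw [key]; simp

/-- the block embedding of symplectic groups along an embedding of the index sets -/
def blk (e : ι ↪ κ) : Matrix.symplecticGroup ι K →* Matrix.symplecticGroup κ K where
  toFun g := ⟨blkMat e g.1, blkMat_mem e g.2⟩
  map_one' := Subtype.ext (blkMat_one e)
  map_mul' g g' := Subtype.ext (blkMat_mul e g.1 g'.1)

theorem coe_blk (e : ι ↪ κ) (g : Matrix.symplecticGroup ι K) :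
    ((blk e g : Matrix.symplecticGroup κ K) : Matrix (κ ⊕ κ) (κ ⊕ κ) K) = blkMat e g.1 := rfl

end Cfsg.Agent.Helper64.SpBlk
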