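import Cfsg.Agent.Helper64.SpBlk.Defs
import Cfsg.Agent.Helper15.PSp.Defs2

/-!
# The model of `Sp_{2n}(K)`, `n = m + 4`, for S2292: definitions

`jM K m = blk (e01 m)`: the `Sp₄(K)` on the hyperbolic pairs `0, 1`; `rhoS K m π = diag(P_π, P_π)`
(`= lvS (rhoM π)`, helper84's Levi embedding of helper1's even permutation matrices).
-/

set_option autoImplicit false

namespace Cfsg.Agent.Helper64.SpBlk

open Matrix Cfsg.Agent.Helper15.PSp Cfsg.Agent.Helper1.SLNP

universe u

/-- the embedding `0 ↦ p0`, `1 ↦ p1` of index sets -/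
def e01 (m : ℕ) : Fin 2 ↪ Fin (m + 4) :=
  ⟨![p0 m, p1 m], by
    intro a b h
    fin_cases a <;> fin_cases b <;> simp_all [p0, p1]⟩

@[simp] theorem e01_zero (m : ℕ) : e01 m 0 = p0 m := rfl
@[simp] theorem e01_one (m : ℕ) : e01 m 1 = p1 m := rfl

theorem dbl_e01 (m : ℕ) : dbl (e01 m) = em (p0 m) (p1 m) := rfl

variable (K : Type u) [Field K] (m : ℕ)

/-- the `Sp₄(K)` on the hyperbolic pairs `0, 1` of `Sp_{2(m+4)}(K)` -/
def jM : Sp4 K →* Matrix.symplecticGroup (Fin (m + 4)) K := blk (e01 m)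

/-- the even permutations of the hyperbolic pairs -/
noncomputable def rhoS : Alt m →* Matrix.symplecticGroup (Fin (m + 4)) K :=
  (Cfsg.Agent.Helper84.PSp.lvS (m + 4) K).comp (rhoM K m)

end Cfsg.Agent.Helper64.SpBlk
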