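import Cfsg.Agent.Helper64.SpBlk.Model
import Cfsg.Agent.Helper1.SLNP.Main
/-! (BCOMM) for S2292 (architect helper15; MODEL block architect helper64).  Save as
Cfsg/Agent/Helper64/SpBlk/P_BCOMM.lean, keep the statement(s) marked PIECE verbatim; auxiliary lemmas must have
names starting with `BCOMM_`.  Lemmas marked LOCAL COPY are other pieces: replace them by
`import Cfsg.Agent.Helper64.SpBlk.P_<THEIR LABEL>` when those are on main (or keep working with the copy and
swap at the end).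

Matrices: (1 + E X Eᵀ)(1 + E' Y E'ᵀ) and the reverse product differ by terms containing Eᵀ * E' = 0 or E'ᵀ * E = 0
(entries: ∑_p [p = dbl e a][p = dbl e' b] = 0 because dbl e a ≠ dbl e' b by hdisj, cases inl/inr). -/
set_option autoImplicit false
namespace Cfsg.Agent.Helper64.SpBlk
open Matrix Cfsg.Agent.Helper15.PSp Cfsg.Agent.Helper1.SLNP Cfsg.Agent.Helper1.SL3P
  Cfsg.Agent.Helper96.StC Cfsg.Agent.Helper29.StCM Cfsg.Agent.Helper96.StemSLTwo Cfsg.Agent.Helper96.StPres
  Cfsg.Agent.Helper9.Sp4P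
universe u
variable {K : Type u} [Field K] {ι κ : Type*} [Fintype ι] [DecidableEq ι] [Fintype κ] [DecidableEq κ]

omit [Fintype ι] [DecidableEq ι] in
/-- the `0/1` matrices of two embeddings with disjoint ranges are orthogonal -/
theorem BCOMM_Emat_transpose_mul {ι' : Type*} [Fintype ι'] [DecidableEq ι'] (e : ι ↪ κ) (e' : ι' ↪ κ)
    (hdisj : ∀ a b, e a ≠ e' b) : (Emat K e)ᵀ * Emat K e' = 0 := by
  ext a b
  rw [Matrix.mul_apply, Matrix.zero_apply]
  apply Finset.sum_eq_zero
  intro p _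
  simp only [Matrix.transpose_apply, Emat_apply]
  by_cases h1 : p = dbl e a
  · have h2 : p ≠ dbl e' b := by
      intro h
      rw [h1] at h
      rcases a with a | a <;> rcases b with b | b
      · simp only [dbl_inl, Sum.inl.injEq] at h
        exact hdisj a b h
      · simp only [dbl_inl, dbl_inr, reduceCtorEq] at h
      · simp only [dbl_inl, dbl_inr, reduceCtorEq] at h
      · simp only [dbl_inr, Sum.inr.injEq] at h
        exact hdisj a b h
    simp [h2]
  · simp [h1]

-- PIECE (BCOMM)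
theorem blk_commute {ι' : Type*} [Fintype ι'] [DecidableEq ι'] (e : ι ↪ κ) (e' : ι' ↪ κ)
    (hdisj : ∀ a b, e a ≠ e' b) (g : Matrix.symplecticGroup ι K) (g' : Matrix.symplecticGroup ι' K) :
    Commute (blk e g) (blk e' g') := by
  have h1 := BCOMM_Emat_transpose_mul (K := K) e e' hdisj
  have h2 := BCOMM_Emat_transpose_mul (K := K) e' e (fun a b => (hdisj b a).symm)
  apply Subtype.ext
  show blkMat e g.1 * blkMat e' g'.1 = blkMat e' g'.1 * blkMat e g.1
  unfold blkMat
  have t1 : Emat K e * (g.1 - 1) * (Emat K e)ᵀ * (Emat K e' * (g'.1 - 1) * (Emat K e')ᵀ) = 0 := by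
    calc Emat K e * (g.1 - 1) * (Emat K e)ᵀ * (Emat K e' * (g'.1 - 1) * (Emat K e')ᵀ)
        = Emat K e * (g.1 - 1) * ((Emat K e)ᵀ * Emat K e') * (g'.1 - 1) * (Emat K e')ᵀ := by
          simp only [Matrix.mul_assoc]
      _ = 0 := by rw [h1]; simp
  have t2 : Emat K e' * (g'.1 - 1) * (Emat K e')ᵀ * (Emat K e * (g.1 - 1) * (Emat K e)ᵀ) = 0 := by
    calc Emat K e' * (g'.1 - 1) * (Emat K e')ᵀ * (Emat K e * (g.1 - 1) * (Emat K e)ᵀ)
        = Emat K e' * (g'.1 - 1) * ((Emat K e')ᵀ * Emat K e) * (g.1 - 1) * (Emat K e)ᵀ := by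
          simp only [Matrix.mul_assoc]
      _ = 0 := by rw [h2]; simp
  rw [Matrix.mul_add, Matrix.add_mul, Matrix.add_mul, Matrix.one_mul, Matrix.mul_one, Matrix.one_mul,
    t1, Matrix.mul_add, Matrix.add_mul, Matrix.add_mul, Matrix.one_mul, Matrix.mul_one, Matrix.one_mul,
    t2]
  abel

end Cfsg.Agent.Helper64.SpBlk
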