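import Cfsg.Agent.Helper64.SpBlk.Model
import Cfsg.Agent.Helper1.SLNP.Main
/-! (BLONG) for S2292 (architect helper15; MODEL block architect helper64), filled by helper55.

`i0 K = Cfsg.Agent.Helper84.PSp.sl2 (0 : Fin 2)`, `coe_sl2` (Helper84.PSpNorm): fromBlocks of diagonals, so
`Y = (i0 K g).1 - 1` is supported on the rows/columns `inl 0`, `inr 0`: `Y = P * Y * P` for the diagonal projection `P`
on these two coordinates, and `Emat K e * P` only involves `e 0`. -/
set_option autoImplicit false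
set_option linter.unusedSectionVars false
namespace Cfsg.Agent.Helper64.SpBlk
open Matrix Cfsg.Agent.Helper15.PSp Cfsg.Agent.Helper1.SLNP Cfsg.Agent.Helper1.SL3P
  Cfsg.Agent.Helper96.StC Cfsg.Agent.Helper29.StCM Cfsg.Agent.Helper96.StemSLTwo Cfsg.Agent.Helper96.StPres
  Cfsg.Agent.Helper9.Sp4P
universe u
variable {K : Type u} [Field K] {ι κ : Type*} [Fintype ι] [DecidableEq ι] [Fintype κ] [DecidableEq κ]

variable (K) in
/-- the diagonal projection on the coordinates `inl 0`, `inr 0` -/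
def BLONG_P : Matrix (Fin 2 ⊕ Fin 2) (Fin 2 ⊕ Fin 2) K :=
  Matrix.diagonal fun a => if idx a = 0 then 1 else 0

theorem BLONG_P_transpose : (BLONG_P K)ᵀ = BLONG_P K := Matrix.diagonal_transpose _

/-- the entries of `i0 K g - 1` outside the rows and columns `inl 0`, `inr 0` vanish -/
theorem BLONG_entry (g : SL2 K) (a b : Fin 2 ⊕ Fin 2) (hab : ¬ (idx a = 0 ∧ idx b = 0)) :
    ((i0 K g : Sp4 K).1 - 1) a b = 0 := by
  have hc : (i0 K g : Sp4 K).1 = _ := Cfsg.Agent.Helper84.PSp.coe_sl2 (F := K) (0 : Fin 2) g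
  rw [hc]
  rcases a with a | a <;> rcases b with b | b <;> fin_cases a <;> fin_cases b <;>
    simp_all

theorem BLONG_proj (g : SL2 K) :
    (i0 K g : Sp4 K).1 - 1 = BLONG_P K * ((i0 K g : Sp4 K).1 - 1) * BLONG_P K := by
  ext a b
  unfold BLONG_P
  rw [Matrix.mul_diagonal, Matrix.diagonal_mul]
  by_cases hab : idx a = 0 ∧ idx b = 0
  · rw [if_pos hab.1, if_pos hab.2, one_mul, mul_one]
  · rw [BLONG_entry g a b hab, mul_zero, zero_mul]

theorem BLONG_EP (e e' : Fin 2 ↪ κ) (h : e 0 = e' 0) :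
    Emat K e * BLONG_P K = Emat K e' * BLONG_P K := by
  ext p a
  unfold BLONG_P
  rw [Matrix.mul_diagonal, Matrix.mul_diagonal]
  by_cases ha : idx a = 0
  · rw [if_pos ha, mul_one, mul_one, Emat_apply, Emat_apply]
    rcases a with a | a
    · have : a = 0 := ha
      subst this
      rw [dbl_inl, dbl_inl, h]
    · have : a = 0 := ha
      subst this
      rw [dbl_inr, dbl_inr, h]
  · rw [if_neg ha, mul_zero, mul_zero]

theorem BLONG_blkMat (e : Fin 2 ↪ κ) (g : SL2 K) :
    blkMat e (i0 K g : Sp4 K).1 =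
      1 + (Emat K e * BLONG_P K) * ((i0 K g : Sp4 K).1 - 1) * (Emat K e * BLONG_P K)ᵀ := by
  unfold blkMat
  conv_lhs => rw [BLONG_proj g]
  rw [Matrix.transpose_mul, BLONG_P_transpose]
  simp only [Matrix.mul_assoc]

-- PIECE (BLONG)
theorem blk_i0 (e e' : Fin 2 ↪ κ) (h : e 0 = e' 0) (g : SL2 K) :
    blk e (i0 K g) = blk e' (i0 K g) := by
  apply Subtype.ext
  rw [coe_blk, coe_blk, BLONG_blkMat, BLONG_blkMat, BLONG_EP e e' h]

end Cfsg.Agent.Helper64.SpBlk
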