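import Cfsg.Agent.Helper64.SpBlk.Model
import Cfsg.Agent.Helper1.SLNP.Main
import Cfsg.Agent.Helper15.PSp.P_NS
/-! (BSWAP) for S2292 (architect helper15; MODEL block architect helper64), filled by helper55.

`nS K` has matrix `nSMat K p q = if q = sw p then 1 else 0`, `sw = Sum.map (swap 0 1) (swap 0 1)` (helper15 Defs);
(nS)⁻¹ = nSᵀ = nS (sw is an involution).  Emat K (swap.trans e) = Emat K e * nSMat K (entries), so
1 + E nS (g - 1) nSᵀ Eᵀ = 1 + E (nS g nS⁻¹ - 1) Eᵀ. -/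
set_option autoImplicit false
set_option linter.unusedSectionVars false
namespace Cfsg.Agent.Helper64.SpBlk
open Matrix Cfsg.Agent.Helper15.PSp Cfsg.Agent.Helper1.SLNP Cfsg.Agent.Helper1.SL3P
  Cfsg.Agent.Helper96.StC Cfsg.Agent.Helper29.StCM Cfsg.Agent.Helper96.StemSLTwo Cfsg.Agent.Helper96.StPres
  Cfsg.Agent.Helper9.Sp4P
universe u
variable {K : Type u} [Field K] {ι κ : Type*} [Fintype ι] [DecidableEq ι] [Fintype κ] [DecidableEq κ]

theorem BSWAP_dbl (e : Fin 2 ↪ κ) (a : Fin 2 ⊕ Fin 2) :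
    dbl ((Equiv.swap (0 : Fin 2) 1).toEmbedding.trans e) a = dbl e (sw a) := by
  rcases a with a | a <;> rfl

theorem BSWAP_Emat (e : Fin 2 ↪ κ) :
    Emat K ((Equiv.swap (0 : Fin 2) 1).toEmbedding.trans e) = Emat K e * nSMat K := by
  ext p a
  rw [Matrix.mul_apply, Finset.sum_eq_single (sw a)]
  · have h1 : nSMat K (sw a) a = 1 := by
      simp only [nSMat, Matrix.of_apply]
      rw [if_pos (NS_sw_sw a).symm]
    rw [h1, mul_one, Emat_apply, Emat_apply, BSWAP_dbl]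
  · intro c _ hc
    have h1 : nSMat K c a = 0 := by
      simp only [nSMat, Matrix.of_apply]
      rw [if_neg]
      intro h
      apply hc
      rw [h, NS_sw_sw]
    rw [h1, mul_zero]
  · intro h
    exact absurd (Finset.mem_univ _) h

theorem BSWAP_transpose : (nSMat K)ᵀ = nSMat K := by
  ext p q
  simp only [Matrix.transpose_apply, nSMat, Matrix.of_apply]
  by_cases h : q = sw p
  · rw [if_pos h, if_pos ((NS_eq_sw_iff q p).mp h).symm]
  · rw [if_neg h, if_neg]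
    intro h'
    exact h ((NS_eq_sw_iff q p).mpr h'.symm)

theorem BSWAP_sq : nSMat K * nSMat K = 1 := by
  have h := congrArg Subtype.val (NS_sq (K := K))
  exact h

theorem BSWAP_coe (g : Sp4 K) :
    ((nS K * g * (nS K)⁻¹ : Sp4 K) : Matrix (Fin 2 ⊕ Fin 2) (Fin 2 ⊕ Fin 2) K) = nSMat K * g.1 * nSMat K := by
  have hinv : (nS K)⁻¹ = nS K := inv_eq_of_mul_eq_one_right NS_sq
  rw [hinv]
  rfl

-- PIECE (BSWAP)
theorem blk_swap (e : Fin 2 ↪ κ) (g : Sp4 K) :
    blk ((Equiv.swap (0 : Fin 2) 1).toEmbedding.trans e) g = blk e (nS K * g * (nS K)⁻¹) := by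
  apply Subtype.ext
  rw [coe_blk, coe_blk, BSWAP_coe]
  unfold blkMat
  rw [BSWAP_Emat, Matrix.transpose_mul, BSWAP_transpose]
  have e1 : nSMat K * g.1 * nSMat K - 1 = nSMat K * (g.1 - 1) * nSMat K := by
    rw [Matrix.mul_sub, Matrix.sub_mul, Matrix.mul_one, BSWAP_sq]
  rw [e1]
  simp only [Matrix.mul_assoc]

end Cfsg.Agent.Helper64.SpBlk
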