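import Cfsg.Agent.Helper64.SpBlk.Model
import Cfsg.Agent.Helper1.SLNP.Main
import Cfsg.Agent.Helper64.SpBlk.P_BRHO
import Cfsg.Agent.Helper64.SpBlk.P_BCONJ
import Cfsg.Agent.Helper64.SpBlk.P_BCOMM
import Cfsg.Agent.Helper64.SpBlk.P_BSWAP
import Cfsg.Agent.Helper64.SpBlk.P_BLONG
/-! (MGL) for S2292 (architect helper15; MODEL block architect helper64).  Save as
Cfsg/Agent/Helper64/SpBlk/P_MGL.lean, keep the statement(s) marked PIECE verbatim; auxiliary lemmas must have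
names starting with `MGL_`.  The LOCAL COPIES of the pieces (BRHO), (BCONJ), (BCOMM), (BSWAP), (BLONG) of the stub
are replaced by the imports of the landed pieces.

Glue4 fields from the B-lemmas, with P = rhoS K m π and hP = `coe_rhoS`:
st: blk_conj + (e01 m).trans π.1.toEmbedding = e01 m (ext on Fin 2: π fixes p0, p1): ρ π * jM g * (ρ π)⁻¹ = jM g.
fl: blk_conj + (e01 m).trans (sg m).1.toEmbedding = (swap 0 1).toEmbedding.trans (e01 m) + blk_swap.
lg: blk_conj + blk_i0 (the embedding (e01 m).trans π still maps 0 ↦ p0).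
dj: blk_conj + blk_commute: ranges {p0, p1} and {pi0 p0, pi0 p1} = {p2, p3} are disjoint. -/
set_option autoImplicit false
namespace Cfsg.Agent.Helper64.SpBlk
open Matrix Cfsg.Agent.Helper15.PSp Cfsg.Agent.Helper1.SLNP Cfsg.Agent.Helper1.SL3P
  Cfsg.Agent.Helper96.StC Cfsg.Agent.Helper29.StCM Cfsg.Agent.Helper96.StemSLTwo Cfsg.Agent.Helper96.StPres
  Cfsg.Agent.Helper9.Sp4P
universe u
variable {K : Type u} [Field K] {ι κ : Type*} [Fintype ι] [DecidableEq ι] [Fintype κ] [DecidableEq κ]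

theorem MGL_pi0_p0 (m : ℕ) : (pi0 m).1 (p0 m) = p2 m := by
  show (Equiv.swap (p0 m) (p2 m) * Equiv.swap (p1 m) (p3 m)) (p0 m) = p2 m
  rw [Equiv.Perm.mul_apply, Equiv.swap_apply_of_ne_of_ne (p0_ne_p1 m) (p0_ne_p3 m),
    Equiv.swap_apply_left]

theorem MGL_pi0_p1 (m : ℕ) : (pi0 m).1 (p1 m) = p3 m := by
  show (Equiv.swap (p0 m) (p2 m) * Equiv.swap (p1 m) (p3 m)) (p1 m) = p3 m
  rw [Equiv.Perm.mul_apply, Equiv.swap_apply_left,
    Equiv.swap_apply_of_ne_of_ne (p0_ne_p3 m).symm (p2_ne_p3 m).symm]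

theorem MGL_sg_p0 (m : ℕ) : (sg m).1 (p0 m) = p1 m := by
  show (Equiv.swap (p0 m) (p1 m) * Equiv.swap (p2 m) (p3 m)) (p0 m) = p1 m
  rw [Equiv.Perm.mul_apply, Equiv.swap_apply_of_ne_of_ne (p0_ne_p2 m) (p0_ne_p3 m),
    Equiv.swap_apply_left]

theorem MGL_sg_p1 (m : ℕ) : (sg m).1 (p1 m) = p0 m := by
  show (Equiv.swap (p0 m) (p1 m) * Equiv.swap (p2 m) (p3 m)) (p1 m) = p0 m
  rw [Equiv.Perm.mul_apply, Equiv.swap_apply_of_ne_of_ne (p1_ne_p2 m) (p1_ne_p3 m),
    Equiv.swap_apply_right]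

/-- conjugation of a block by an even permutation of the pairs -/
theorem MGL_conj (m : ℕ) (π : Alt m) (e : Fin 2 ↪ Fin (m + 4)) (g : Sp4 K) :
    rhoS K m π * blk e g * (rhoS K m π)⁻¹ = blk (e.trans π.1.toEmbedding) g :=
  blk_conj (rhoS K m π) π.1 (coe_rhoS m π) e g

/-- from `P * x * P⁻¹ = x` to `Commute P x` -/
theorem MGL_commute_of_conj {D : Type*} [Group D] {P x : D} (h : P * x * P⁻¹ = x) : Commute P x := by
  show P * x = x * P
  calc P * x = (P * x * P⁻¹) * P := by group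
    _ = x * P := by rw [h]

-- PIECE (MGL)
theorem glue4_model (m : ℕ) : Glue4 (jM K m) (rhoS K m) := by
  constructor
  · -- st
    intro π h0 h1 g
    have he : (e01 m).trans π.1.toEmbedding = e01 m := by
      ext i
      fin_cases i
      · show ((π.1 (e01 m 0) : Fin (m + 4)) : ℕ) = e01 m 0
        rw [e01_zero, h0]
      · show ((π.1 (e01 m 1) : Fin (m + 4)) : ℕ) = e01 m 1
        rw [e01_one, h1]
    have h := MGL_conj (K := K) m π (e01 m) g
    rw [he] at h
    exact MGL_commute_of_conj h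
  · -- fl
    intro g
    have he : (e01 m).trans (sg m).1.toEmbedding =
        (Equiv.swap (0 : Fin 2) 1).toEmbedding.trans (e01 m) := by
      ext i
      fin_cases i
      · show (((sg m).1 (e01 m 0) : Fin (m + 4)) : ℕ) = e01 m (Equiv.swap (0 : Fin 2) 1 0)
        rw [e01_zero, MGL_sg_p0, Equiv.swap_apply_left, e01_one]
      · show (((sg m).1 (e01 m 1) : Fin (m + 4)) : ℕ) = e01 m (Equiv.swap (0 : Fin 2) 1 1)
        rw [e01_one, MGL_sg_p1, Equiv.swap_apply_right, e01_zero]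
    have h := MGL_conj (K := K) m (sg m) (e01 m) g
    rw [he, blk_swap] at h
    exact h
  · -- lg
    intro π h0 g
    have h := MGL_conj (K := K) m π (e01 m) (i0 K g)
    have he : blk ((e01 m).trans π.1.toEmbedding) (i0 K g) = blk (e01 m) (i0 K g) := by
      apply blk_i0
      show π.1 (e01 m 0) = e01 m 0
      rw [e01_zero, h0]
    rw [he] at h
    exact MGL_commute_of_conj h
  · -- dj
    intro g g'
    have h := MGL_conj (K := K) m (pi0 m) (e01 m) g'
    show Commute (blk (e01 m) g) (rhoS K m (pi0 m) * blk (e01 m) g' * (rhoS K m (pi0 m))⁻¹)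
    rw [h]
    apply blk_commute
    intro a b
    show e01 m a ≠ (pi0 m).1 (e01 m b)
    fin_cases a <;> fin_cases b
    · show e01 m 0 ≠ (pi0 m).1 (e01 m 0)
      rw [e01_zero, MGL_pi0_p0]
      exact p0_ne_p2 m
    · show e01 m 0 ≠ (pi0 m).1 (e01 m 1)
      rw [e01_zero, e01_one, MGL_pi0_p1]
      exact p0_ne_p3 m
    · show e01 m 1 ≠ (pi0 m).1 (e01 m 0)
      rw [e01_zero, e01_one, MGL_pi0_p0]
      exact p1_ne_p2 m
    · show e01 m 1 ≠ (pi0 m).1 (e01 m 1)
      rw [e01_one, MGL_pi0_p1]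
      exact p1_ne_p3 m

end Cfsg.Agent.Helper64.SpBlk
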