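import Cfsg.Agent.Helper64.SpBlk.Defs

/-!
# Symplectic permutation matrices (model side of S2292)

For a permutation `σ` of the index set `κ` of the hyperbolic pairs, `permS K σ = diag(P_σ, P_σ)` is the matrix
of the permutation `dbl σ` of `κ ⊕ κ`; `permS K : Equiv.Perm κ →* Sp(κ ⊕ κ)`; entries: `coe_permS`.
It satisfies the hypothesis `hP` of `blk_conj` (piece BCONJ): `permS_blk_conj`-type statements follow.
-/

set_option autoImplicit false
set_option linter.unusedSectionVars false

namespace Cfsg.Agent.Helper64.SpBlk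

open Matrix

universe u

variable {K : Type u} [Field K] {κ : Type*} [Fintype κ] [DecidableEq κ]

variable (K) in
/-- the matrix of the permutation `dbl σ` of `κ ⊕ κ` -/
def permSMat (σ : Equiv.Perm κ) : Matrix (κ ⊕ κ) (κ ⊕ κ) K :=
  Matrix.of fun p q => if p = dbl σ q then 1 else 0

theorem permSMat_apply (σ : Equiv.Perm κ) (p q : κ ⊕ κ) :
    permSMat K σ p q = if p = dbl σ q then 1 else 0 := rfl

variable (K) in
/-- the permutation matrix of `σ`, with the convention `P e_j = e_{σ j}` -/
def pmMat (σ : Equiv.Perm κ) : Matrix κ κ K :=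
  Matrix.of fun i j => if i = σ j then 1 else 0

theorem pmMat_mul_transpose (σ : Equiv.Perm κ) : pmMat K σ * (pmMat K σ)ᵀ = 1 := by
  ext i k
  rw [Matrix.mul_apply]
  simp only [pmMat, Matrix.of_apply, Matrix.transpose_apply, Matrix.one_apply]
  have h : ∀ j : κ, ((if i = σ j then (1 : K) else 0) * if k = σ j then 1 else 0) =
      if j = σ.symm i then (if k = i then 1 else 0) else 0 := by
    intro j
    by_cases h1 : i = σ j
    · have h2 : j = σ.symm i := by rw [h1, Equiv.symm_apply_apply]
      rw [if_pos h1, if_pos h2, one_mul, ← h1]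
    · have h2 : j ≠ σ.symm i := fun e => h1 (by rw [e, Equiv.apply_symm_apply])
      rw [if_neg h1, if_neg h2, zero_mul]
  rw [Finset.sum_congr rfl (fun j _ => h j), Finset.sum_ite_eq' Finset.univ (σ.symm i),
    if_pos (Finset.mem_univ _)]
  by_cases hik : i = k
  · rw [if_pos hik, if_pos hik.symm]
  · rw [if_neg hik, if_neg (Ne.symm hik)]

theorem permSMat_eq_fromBlocks (σ : Equiv.Perm κ) :
    permSMat K σ = Matrix.fromBlocks (pmMat K σ) 0 0 (pmMat K σ) := by
  ext p q
  rcases p with p | p <;> rcases q with q | q <;>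
    simp [permSMat, pmMat, dbl]

theorem permSMat_mem (σ : Equiv.Perm κ) : permSMat K σ ∈ Matrix.symplecticGroup κ K := by
  rw [SymplecticGroup.mem_iff, permSMat_eq_fromBlocks, Matrix.J, Matrix.fromBlocks_transpose,
    Matrix.fromBlocks_multiply, Matrix.fromBlocks_multiply]
  simp only [Matrix.mul_zero, Matrix.zero_mul, zero_add, add_zero, Matrix.mul_one, Matrix.mul_neg,
    Matrix.neg_mul, Matrix.transpose_zero, pmMat_mul_transpose, neg_zero]

theorem dbl_mul (σ τ : Equiv.Perm κ) (q : κ ⊕ κ) : dbl (σ * τ) q = dbl σ (dbl τ q) := by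
  rcases q with q | q <;> rfl

theorem permSMat_one : permSMat K (1 : Equiv.Perm κ) = 1 := by
  ext p q
  rw [permSMat_apply, Matrix.one_apply]
  have : dbl (1 : Equiv.Perm κ) q = q := by rcases q with q | q <;> rfl
  rw [this]

theorem permSMat_mul (σ τ : Equiv.Perm κ) :
    permSMat K (σ * τ) = permSMat K σ * permSMat K τ := by
  ext p q
  rw [Matrix.mul_apply]
  simp only [permSMat_apply]
  have h : ∀ r : κ ⊕ κ, ((if p = dbl σ r then (1 : K) else 0) * if r = dbl τ q then 1 else 0) =
      if r = dbl τ q then (if p = dbl σ (dbl τ q) then 1 else 0) else 0 := by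
    intro r
    by_cases h1 : r = dbl τ q
    · rw [if_pos h1, if_pos h1, mul_one, h1]
    · rw [if_neg h1, if_neg h1, mul_zero]
  rw [Finset.sum_congr rfl (fun r _ => h r), Finset.sum_ite_eq' Finset.univ (dbl τ q),
    if_pos (Finset.mem_univ _), dbl_mul]

variable (K) in
/-- the symplectic permutation matrices `σ ↦ diag(P_σ, P_σ)` -/
def permS : Equiv.Perm κ →* Matrix.symplecticGroup κ K where
  toFun σ := ⟨permSMat K σ, permSMat_mem σ⟩
  map_one' := Subtype.ext permSMat_one
  map_mul' σ τ := Subtype.ext (permSMat_mul σ τ)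

theorem coe_permS (σ : Equiv.Perm κ) (p q : κ ⊕ κ) :
    ((permS K σ : Matrix.symplecticGroup κ K) : Matrix (κ ⊕ κ) (κ ⊕ κ) K) p q =
      if p = dbl σ q then 1 else 0 := rfl

end Cfsg.Agent.Helper64.SpBlk
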