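import Cfsg.Agent.Helper64.SpBlk.PermS
import Cfsg.Agent.Helper64.SpBlk.P_BCONJ
import Cfsg.Agent.Helper64.SpBlk.P_BSPT

/-!
# Conjugation of block embeddings by symplectic permutation matrices

`permS K σ * blk e g * (permS K σ)⁻¹ = blk (e.trans σ) g` for every permutation `σ` of the hyperbolic pairs
(no parity condition), and the action on the root elements `spT`.
-/

set_option autoImplicit false
set_option linter.unusedSectionVars false

namespace Cfsg.Agent.Helper64.SpBlk

open Matrix Cfsg.Agent.Helper29.StCM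

universe u

variable {K : Type u} [Field K] {ι κ : Type*} [Fintype ι] [DecidableEq ι] [Fintype κ] [DecidableEq κ]

theorem permS_conj_blk (σ : Equiv.Perm κ) (e : ι ↪ κ) (g : Matrix.symplecticGroup ι K) :
    permS K σ * blk e g * (permS K σ)⁻¹ = blk (e.trans σ.toEmbedding) g :=
  blk_conj (permS K σ) σ (coe_permS σ) e g

theorem permS_conj_blk_spT {n m : ℕ} (σ : Equiv.Perm (Fin m)) (e : Fin n ↪ Fin m)
    (p q : Fin n ⊕ Fin n) (hpq : p ≠ q) (t : K) :
    permS K σ * blk e (spT p q t) * (permS K σ)⁻¹ = spT (dbl σ (dbl e p)) (dbl σ (dbl e q)) t := by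
  rw [permS_conj_blk, blk_spT _ p q hpq t]
  have h : ∀ r : Fin n ⊕ Fin n, dbl (e.trans σ.toEmbedding) r = dbl σ (dbl e r) := by
    intro r
    rcases r with r | r <;> rfl
  rw [h, h]

end Cfsg.Agent.Helper64.SpBlk
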